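import Mathlib
import Groth.Agent.Lib.Helper15.FlatSch
import Groth.Agent.Lib.Helper21.FlatDescS

/-!
# Helper24 — fppf coverings in `Over S`: local lifting of points, and the criterion
"monomorphism + fppf-local sections ⇒ isomorphism"; pullback squares checked fppf-locally.
-/

set_option backward.isDefEq.respectTransparency.types false

universe u
open CategoryTheory AlgebraicGeometry Limits

namespace Groth.Agent.Lib.Helper24.ThirdIso

variable {S : Scheme.{u}}

/-- an fppf covering in `Over S` -/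
def IsCov {X Y : Over S} (f : X ⟶ Y) : Prop :=
  Surjective f.left ∧ Flat f.left ∧ LocallyOfFinitePresentation f.left

theorem IsCov.comp {X Y Z : Over S} {f : X ⟶ Y} {g : Y ⟶ Z} (hf : IsCov f) (hg : IsCov g) :
    IsCov (f ≫ g) := by
  obtain ⟨h1, h2, h3⟩ := hf
  obtain ⟨h4, h5, h6⟩ := hg
  refine ⟨?_, ?_, ?_⟩ <;> rw [Over.comp_left] <;> infer_instance

theorem IsCov.effectiveEpi {X Y : Over S} {f : X ⟶ Y} (hf : IsCov f) : EffectiveEpi f.left := by
  obtain ⟨h1, h2, h3⟩ := hf
  infer_instance

theorem IsCov.epi {X Y : Over S} {f : X ⟶ Y} (hf : IsCov f) : Epi f := by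
  haveI := hf.effectiveEpi
  haveI : Epi f.left := inferInstance
  exact (Over.forget S).epi_of_epi_map ‹Epi f.left›

/-- base change of a covering -/
theorem IsCov.of_isPullback {P X Y Z : Over S} {a : P ⟶ X} {b : P ⟶ Y} {f : X ⟶ Z} {g : Y ⟶ Z}
    (sq : IsPullback a b f g) (hg : IsCov g) : IsCov a := by
  obtain ⟨h1, h2, h3⟩ := hg
  have sq' := sq.map (Over.forget S)
  simp only [Over.forget_map] at sq'
  exact ⟨MorphismProperty.of_isPullback (P := @Surjective) sq'.flip h1,
    MorphismProperty.of_isPullback (P := @Flat) sq'.flip h2,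
    MorphismProperty.of_isPullback (P := @LocallyOfFinitePresentation) sq'.flip h3⟩

/-- points lift through coverings, locally -/
theorem exists_lift {A B T : Over S} (q : A ⟶ B) (hq : IsCov q) (b : T ⟶ B) :
    ∃ (T' : Over S) (c : T' ⟶ T) (a : T' ⟶ A), IsCov c ∧ a ≫ q = c ≫ b :=
  ⟨pullback b q, pullback.fst b q, pullback.snd b q,
    IsCov.of_isPullback (IsPullback.of_hasPullback b q) hq, pullback.condition.symm⟩

/-- a monomorphism with a section over a covering is an isomorphism -/
theorem isIso_of_mono_of_section {P T T' : Over S} (θ : P ⟶ T) [Mono θ] (c : T' ⟶ T)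
    (hc : IsCov c) (t' : T' ⟶ P) (h : t' ≫ θ = c) : IsIso θ := by
  haveI := hc.effectiveEpi
  haveI : Mono θ.left := inferInstance
  have hl : t'.left ≫ θ.left = c.left := by rw [← Over.comp_left, h]
  have hcoh : ∀ {Z : Scheme.{u}} (g₁ g₂ : Z ⟶ T'.left), g₁ ≫ c.left = g₂ ≫ c.left →
      g₁ ≫ t'.left = g₂ ≫ t'.left := by
    intro Z g₁ g₂ hg
    rw [← cancel_mono θ.left, Category.assoc, Category.assoc, hl, hg]
  let s : T.left ⟶ P.left := EffectiveEpi.desc c.left t'.left hcoh
  have hs : c.left ≫ s = t'.left := EffectiveEpi.fac c.left t'.left hcoh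
  have h1 : s ≫ θ.left = 𝟙 _ := by
    rw [← cancel_epi c.left, ← Category.assoc, hs, hl, Category.comp_id]
  have h2 : θ.left ≫ s = 𝟙 _ := by
    rw [← cancel_mono θ.left, Category.assoc, h1, Category.comp_id, Category.id_comp]
  haveI : IsIso θ.left := ⟨s, h2, h1⟩
  haveI : IsIso ((Over.forget S).map θ) := ‹IsIso θ.left›
  exact isIso_of_reflects_iso θ (Over.forget S)

/-- a commutative square is a pullback if the comparison map is a monomorphism and
points of the pullback lift fppf-locally -/
theorem isPullback_of_local {P X Y Z : Over S} (a : P ⟶ X) (b : P ⟶ Y) (f : X ⟶ Z) (g : Y ⟶ Z)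
    (w : a ≫ f = b ≫ g)
    (hmono : ∀ (T : Over S) (s t : T ⟶ P), s ≫ a = t ≫ a → s ≫ b = t ≫ b → s = t)
    (hloc : ∀ (T : Over S) (x : T ⟶ X) (y : T ⟶ Y), x ≫ f = y ≫ g →
      ∃ (T' : Over S) (c : T' ⟶ T) (t' : T' ⟶ P), IsCov c ∧ t' ≫ a = c ≫ x ∧ t' ≫ b = c ≫ y) :
    IsPullback a b f g := by
  let θ : P ⟶ pullback f g := pullback.lift a b w
  haveI : Mono θ := by
    constructor
    intro T s t hst
    apply hmono T s t
    · have := congrArg (· ≫ pullback.fst f g) hst
      simp only [θ, Category.assoc] at this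
      rwa [pullback.lift_fst] at this
    · have := congrArg (· ≫ pullback.snd f g) hst
      simp only [θ, Category.assoc] at this
      rwa [pullback.lift_snd] at this
  obtain ⟨T', c, t', hc, h1, h2⟩ := hloc (pullback f g) (pullback.fst f g) (pullback.snd f g)
    pullback.condition
  have hθ : t' ≫ θ = c := by
    apply pullback.hom_ext
    · rw [Category.assoc, pullback.lift_fst, h1]
    · rw [Category.assoc, pullback.lift_snd, h2]
  haveI := isIso_of_mono_of_section θ c hc t' hθ
  exact IsPullback.of_iso_pullback ⟨w⟩ (asIso θ) (pullback.lift_fst _ _ _) (pullback.lift_snd _ _ _)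

end Groth.Agent.Lib.Helper24.ThirdIso
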