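import Mathlib
import Groth.Prelude.Def_RedSub
import Groth.Agent.Lib.Helper24.ThirdIso.Cov

/-!
# Helper24 — the third isomorphism theorem for fppf quotients of group schemes
-/

set_option backward.isDefEq.respectTransparency.types false

universe u
open CategoryTheory AlgebraicGeometry Limits MonoidalCategory CartesianMonoidalCategory MonObj

namespace Groth.Agent.Lib.Helper24.ThirdIso

variable {S : Scheme.{u}}

section points

variable {G K : Over S} [GrpObj G] (k : K ⟶ G)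

theorem lift_mul {T : Over S} (g : T ⟶ G) (κ : T ⟶ K) :
    lift g κ ≫ (G ◁ k) ≫ μ[G] = g * (κ ≫ k) := by
  rw [← Category.assoc, lift_whiskerLeft, ← Hom.mul_def]

/-- points of `G` with the same image in the quotient differ by a point of the subgroup -/
theorem exists_of_quot {Q : Over S} (q : G ⟶ Q)
    (sq : IsPullback (fst G K) ((G ◁ k) ≫ μ[G]) q q) {T : Over S} (g g' : T ⟶ G)
    (hgg : g ≫ q = g' ≫ q) : ∃ κ : T ⟶ K, g' = g * (κ ≫ k) := by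
  refine ⟨sq.lift g g' hgg ≫ snd G K, ?_⟩
  have h1 : sq.lift g g' hgg = lift g (sq.lift g g' hgg ≫ snd G K) := by
    apply CartesianMonoidalCategory.hom_ext
    · rw [lift_fst, sq.lift_fst]
    · rw [lift_snd]
  have h2 := sq.lift_snd g g' hgg
  rw [h1, lift_mul] at h2
  exact h2.symm

theorem quot_mul {Q : Over S} (q : G ⟶ Q)
    (sq : IsPullback (fst G K) ((G ◁ k) ≫ μ[G]) q q) {T : Over S} (g : T ⟶ G) (κ : T ⟶ K) :
    (g * (κ ≫ k)) ≫ q = g ≫ q := by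
  have := whisker_eq (lift g κ) sq.w
  rw [← Category.assoc, lift_fst, ← Category.assoc, lift_mul] at this
  exact this.symm

end points

section main

variable {H K G QH Kb : Over S} [GrpObj H] [GrpObj K] [GrpObj G] [GrpObj Kb]
  (h : H ⟶ K) (k : K ⟶ G) [Mono k] [IsMonHom h] [IsMonHom k]
  (qH : G ⟶ QH) (qKb : K ⟶ Kb) [IsMonHom qKb]
  (act : QH ⊗ Kb ⟶ QH) (hact : (qH ⊗ₘ qKb) ≫ act = (G ◁ k) ≫ μ[G] ≫ qH)

include hact in
theorem act_pt {T : Over S} (g : T ⟶ G) (κ : T ⟶ K) :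
    lift (g ≫ qH) (κ ≫ qKb) ≫ act = (g * (κ ≫ k)) ≫ qH := by
  calc lift (g ≫ qH) (κ ≫ qKb) ≫ act = (lift g κ ≫ (qH ⊗ₘ qKb)) ≫ act := by rw [lift_map]
    _ = lift g κ ≫ ((G ◁ k) ≫ μ[G] ≫ qH) := by rw [Category.assoc, hact]
    _ = (lift g κ ≫ (G ◁ k) ≫ μ[G]) ≫ qH := by simp only [Category.assoc]
    _ = (g * (κ ≫ k)) ≫ qH := by rw [lift_mul]

omit [IsMonHom h] in
theorem h_qKb_pt (sqB : IsPullback (fst K H) ((K ◁ h) ≫ μ[K]) qKb qKb) {T : Over S} (ζ : T ⟶ H) :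
    (ζ ≫ h) ≫ qKb = 1 := by
  have := quot_mul h qKb sqB (1 : T ⟶ K) ζ
  rw [_root_.one_mul, MonObj.one_comp] at this
  exact this

omit [GrpObj K] [GrpObj G] [GrpObj Kb] [IsMonHom qKb] in
theorem exists_lift2 (hqH : IsCov qH) (hqKb : IsCov qKb) {T : Over S} (x : T ⟶ QH) (c : T ⟶ Kb) :
    ∃ (T' : Over S) (e : T' ⟶ T) (g : T' ⟶ G) (κ : T' ⟶ K),
      IsCov e ∧ g ≫ qH = e ≫ x ∧ κ ≫ qKb = e ≫ c := by
  obtain ⟨T₁, e₁, g₁, he₁, hg₁⟩ := exists_lift qH hqH x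
  obtain ⟨T₂, e₂, κ, he₂, hκ⟩ := exists_lift qKb hqKb (e₁ ≫ c)
  exact ⟨T₂, e₂ ≫ e₁, e₂ ≫ g₁, κ, he₂.comp he₁, by rw [Category.assoc, hg₁, Category.assoc],
    by rw [hκ, Category.assoc]⟩

include hact in
/-- (ii) -/
theorem isQuotient_comp (hqH : RedSub.IsQuotient (h ≫ k) qH) (hqKb : RedSub.IsQuotient h qKb)
    {Y : Over S} (p : QH ⟶ Y) (hp : IsCov p) (sqC : IsPullback (fst QH Kb) act p p) :
    RedSub.IsQuotient k (qH ≫ p) := by
  have hcH : IsCov qH := ⟨hqH.1, hqH.2.1, hqH.2.2.1⟩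
  have hcK : IsCov qKb := ⟨hqKb.1, hqKb.2.1, hqKb.2.2.1⟩
  have hc := hcH.comp hp
  refine ⟨hc.1, hc.2.1, hc.2.2, ?_⟩
  apply isPullback_of_local
  · -- commutativity
    have e1 : fst G K ≫ qH = (qH ⊗ₘ qKb) ≫ fst QH Kb := (tensorHom_fst qH qKb).symm
    have e2 : ((G ◁ k) ≫ μ[G]) ≫ qH = (qH ⊗ₘ qKb) ≫ act := by
      rw [hact, Category.assoc]
    rw [← Category.assoc, e1, ← Category.assoc ((G ◁ k) ≫ μ[G]), e2, Category.assoc,
      Category.assoc, sqC.w]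
  · -- mono
    intro T s t h1 h2
    have hs : s = lift (s ≫ fst G K) (s ≫ snd G K) := by
      apply CartesianMonoidalCategory.hom_ext <;> simp
    have ht : t = lift (t ≫ fst G K) (t ≫ snd G K) := by
      apply CartesianMonoidalCategory.hom_ext <;> simp
    rw [hs, ht, lift_mul, lift_mul, h1] at h2
    have h3 : (s ≫ snd G K) ≫ k = (t ≫ snd G K) ≫ k := mul_left_cancel h2
    have h4 : s ≫ snd G K = t ≫ snd G K := (cancel_mono k).1 h3
    apply CartesianMonoidalCategory.hom_ext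
    · exact h1
    · exact h4
  · -- local sections
    intro T x y hxy
    rw [← Category.assoc, ← Category.assoc] at hxy
    let z : T ⟶ QH ⊗ Kb := sqC.lift (x ≫ qH) (y ≫ qH) hxy
    have hz1 : z ≫ fst QH Kb = x ≫ qH := sqC.lift_fst _ _ _
    have hz2 : z ≫ act = y ≫ qH := sqC.lift_snd _ _ _
    obtain ⟨T', c, κ, hcov, hκ⟩ := exists_lift qKb hcK (z ≫ snd QH Kb)
    have hz : c ≫ z = lift ((c ≫ x) ≫ qH) (κ ≫ qKb) := by
      apply CartesianMonoidalCategory.hom_ext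
      · rw [lift_fst, Category.assoc, hz1, Category.assoc]
      · rw [lift_snd, Category.assoc, hκ]
    have h1 : (c ≫ y) ≫ qH = ((c ≫ x) * (κ ≫ k)) ≫ qH := by
      calc (c ≫ y) ≫ qH = c ≫ (z ≫ act) := by rw [hz2, Category.assoc]
        _ = (c ≫ z) ≫ act := (Category.assoc _ _ _).symm
        _ = lift ((c ≫ x) ≫ qH) (κ ≫ qKb) ≫ act := by rw [hz]
        _ = _ := act_pt k qH qKb act hact _ _
    obtain ⟨ζ, hζ⟩ := exists_of_quot (h ≫ k) qH hqH.2.2.2 _ _ h1.symm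
    refine ⟨T', c, lift (c ≫ x) (κ * (ζ ≫ h)), hcov, by rw [lift_fst], ?_⟩
    rw [lift_mul, MonObj.mul_comp, hζ, _root_.mul_assoc, Category.assoc]

include hact in
/-- (i) -/
theorem quot_of_isQuotient (hqH : RedSub.IsQuotient (h ≫ k) qH) (hqKb : RedSub.IsQuotient h qKb)
    {QK : Over S} (qK : G ⟶ QK) (hqK : RedSub.IsQuotient k qK) (qbar : QH ⟶ QK)
    (hbar : qH ≫ qbar = qK) :
    IsCov qbar ∧ IsPullback (fst QH Kb) act qbar qbar := by
  have hcH : IsCov qH := ⟨hqH.1, hqH.2.1, hqH.2.2.1⟩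
  have hcK : IsCov qKb := ⟨hqKb.1, hqKb.2.1, hqKb.2.2.1⟩
  obtain ⟨hK1, hK2, hK3, sqK⟩ := hqK
  obtain ⟨hH1, hH2, hH3, sqH⟩ := hqH
  have hl : qH.left ≫ qbar.left = qK.left := by rw [← Over.comp_left, hbar]
  refine ⟨⟨?_, ?_, ?_⟩, ?_⟩
  · haveI : Surjective (qH.left ≫ qbar.left) := by rw [hl]; exact hK1
    exact Surjective.of_comp qH.left qbar.left
  · haveI : Flat (qH.left ≫ qbar.left) := by rw [hl]; exact hK2
    exact Groth.Agent.Lib.Helper15.flat_of_flat_comp_of_surjective_flat qH.left qbar.left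
  · haveI : LocallyOfFinitePresentation (qH.left ≫ qbar.left) := by rw [hl]; exact hK3
    exact Groth.Agent.Lib.Helper21.FlatDesc.locallyOfFinitePresentation_of_fppf_comp qH.left
      qbar.left
  apply isPullback_of_local
  · -- commutativity
    obtain ⟨T', e, g, κ, he, hg, hκ⟩ := exists_lift2 qH qKb hcH hcK (fst QH Kb) (snd QH Kb)
    haveI := he.epi
    rw [← cancel_epi e]
    have hee : e = lift (g ≫ qH) (κ ≫ qKb) := by
      apply CartesianMonoidalCategory.hom_ext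
      · rw [lift_fst, hg]
      · rw [lift_snd, hκ]
    have e1 : e ≫ fst QH Kb ≫ qbar = g ≫ qK := by
      rw [← Category.assoc, ← hg, Category.assoc, hbar]
    have e2 : e ≫ act ≫ qbar = g ≫ qK := by
      calc e ≫ act ≫ qbar = (e ≫ act) ≫ qbar := (Category.assoc _ _ _).symm
        _ = (lift (g ≫ qH) (κ ≫ qKb) ≫ act) ≫ qbar := by rw [← hee]
        _ = ((g * (κ ≫ k)) ≫ qH) ≫ qbar := by rw [act_pt k qH qKb act hact]
        _ = (g * (κ ≫ k)) ≫ qK := by rw [Category.assoc, hbar]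
        _ = g ≫ qK := quot_mul k qK sqK g κ
    rw [e1, e2]
  · -- mono
    intro T s t h1 h2
    obtain ⟨T₁, e₁, g, κ, he₁, hg, hκ⟩ := exists_lift2 qH qKb hcH hcK (s ≫ fst QH Kb)
      (s ≫ snd QH Kb)
    obtain ⟨T₂, e₂, κ', he₂, hκ'⟩ := exists_lift qKb hcK (e₁ ≫ t ≫ snd QH Kb)
    have hE := he₂.comp he₁
    haveI := hE.epi
    have hs : (e₂ ≫ e₁) ≫ s = lift ((e₂ ≫ g) ≫ qH) ((e₂ ≫ κ) ≫ qKb) := by
      apply CartesianMonoidalCategory.hom_ext
      · simp only [lift_fst, Category.assoc, hg]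
      · simp only [lift_snd, Category.assoc, hκ]
    have ht : (e₂ ≫ e₁) ≫ t = lift ((e₂ ≫ g) ≫ qH) (κ' ≫ qKb) := by
      apply CartesianMonoidalCategory.hom_ext
      · simp only [lift_fst, Category.assoc, hg, h1]
      · simp only [lift_snd, Category.assoc, hκ']
    have h3 : ((e₂ ≫ g) * ((e₂ ≫ κ) ≫ k)) ≫ qH = ((e₂ ≫ g) * (κ' ≫ k)) ≫ qH := by
      rw [← act_pt k qH qKb act hact, ← act_pt k qH qKb act hact, ← hs, ← ht, Category.assoc,
        Category.assoc (e₂ ≫ e₁), h2]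
    obtain ⟨ζ, hζ⟩ := exists_of_quot (h ≫ k) qH sqH _ _ h3
    have h4 : κ' ≫ k = ((e₂ ≫ κ) * (ζ ≫ h)) ≫ k := by
      rw [MonObj.mul_comp, Category.assoc]
      rw [_root_.mul_assoc] at hζ
      exact mul_left_cancel hζ
    have h5 : κ' = (e₂ ≫ κ) * (ζ ≫ h) := (cancel_mono k).1 h4
    have h6 : κ' ≫ qKb = (e₂ ≫ κ) ≫ qKb := by
      rw [h5, MonObj.mul_comp, h_qKb_pt h qKb hqKb.2.2.2, _root_.mul_one]
    have h7 : (e₂ ≫ e₁) ≫ s = (e₂ ≫ e₁) ≫ t := by rw [hs, ht, h6]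
    exact (cancel_epi (e₂ ≫ e₁)).1 h7
  · -- local sections
    intro T x y hxy
    obtain ⟨T₁, e₁, g, he₁, hg⟩ := exists_lift qH hcH x
    obtain ⟨T₂, e₂, g', he₂, hg'⟩ := exists_lift qH hcH (e₁ ≫ y)
    have hE := he₂.comp he₁
    have h1 : (e₂ ≫ g) ≫ qK = g' ≫ qK := by
      calc (e₂ ≫ g) ≫ qK = e₂ ≫ (g ≫ qH) ≫ qbar := by rw [← hbar]; simp only [Category.assoc]
        _ = e₂ ≫ e₁ ≫ x ≫ qbar := by rw [hg]; simp only [Category.assoc]
        _ = e₂ ≫ e₁ ≫ y ≫ qbar := by rw [hxy]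
        _ = (e₂ ≫ e₁ ≫ y) ≫ qbar := by simp only [Category.assoc]
        _ = (g' ≫ qH) ≫ qbar := by rw [hg']
        _ = g' ≫ qK := by rw [Category.assoc, hbar]
    obtain ⟨κ, hκ⟩ := exists_of_quot k qK sqK _ _ h1
    refine ⟨T₂, e₂ ≫ e₁, lift ((e₂ ≫ e₁) ≫ x) (κ ≫ qKb), hE, by rw [lift_fst], ?_⟩
    have h2 : (e₂ ≫ e₁) ≫ x = (e₂ ≫ g) ≫ qH := by
      rw [Category.assoc, Category.assoc, hg]
    rw [h2, act_pt k qH qKb act hact, ← hκ, hg', Category.assoc]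

end main

end Groth.Agent.Lib.Helper24.ThirdIso
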